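import Cfsg.Agent.H71.Tor.Common
import Cfsg.Agent.H904.SylOne
import Cfsg.Agent.J2Type.ThreeF
import Cfsg.Agent.KFacts.J2.Facts
import Cfsg.Agent.S1619

/-!
# S3235: the facts for `J₂`, `p ≥ 7` (helper71)
-/

set_option autoImplicit false

namespace Cfsg.Agent.H71.Tor

open Subgroup Cfsg Cfsg.Agent.H33.Tor

universe u

theorem card_j2 : Nat.card Spor.J2 = 604800 := Cfsg.Agent.S1619.result.2.2.2

/-- The elements of order 7 of `J₂` are self-centralizing. -/
theorem card_cent_j2_seven {x : Spor.J2} (hx : orderOf x = 7) : Nat.card (centralizer ({x} : Set Spor.J2)) = 7 := by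
  have : Finite Spor.J2 := Nat.finite_of_card_ne_zero (by rw [card_j2]; norm_num)
  have : Fact (Nat.Prime 7) := ⟨by norm_num⟩
  obtain ⟨t, u, Q, v, ρ, D⟩ := Cfsg.Agent.KFacts.J2.Facts.exists_dat_of (X := Spor.J2) ⟨MulEquiv.refl _⟩
  have hR : Nat.card (zpowers x) = 7 := by rw [Nat.card_zpowers, hx]
  obtain ⟨S, hS⟩ := H904.SylOne.exists_sylow (p := 7) hR (by rw [card_j2]; norm_num)
  obtain ⟨h1, h2, -⟩ := Cfsg.Agent.J2Type.ThreeF.sylow_seven D.F S
  rw [← centralizer_zpowers, ← hS, h1, hS]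
  exact hR

/-- `J₂`, all primes `p ≥ 7`. -/
theorem facts_j2 {p : ℕ} (hp : p.Prime) (hp7 : 7 ≤ p) {G : Type u} [Group G] (h : Spor.IsoJ2 G) : Facts p G := by
  obtain ⟨e⟩ := h
  refine Facts.congr e.symm ?_
  by_cases hd : p ∣ Nat.card Spor.J2
  · have h1 : p = 7 := by
      rw [card_j2, show (604800 : ℕ) = 2 ^ 7 * (3 ^ 3 * (5 ^ 2 * 7)) by norm_num] at hd
      rcases (Nat.Prime.dvd_mul hp).1 hd with h | hd
      · have := (Nat.prime_dvd_prime_iff_eq hp Nat.prime_two).1 (hp.dvd_of_dvd_pow h); omega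
      rcases (Nat.Prime.dvd_mul hp).1 hd with h | hd
      · have := (Nat.prime_dvd_prime_iff_eq hp Nat.prime_three).1 (hp.dvd_of_dvd_pow h); omega
      rcases (Nat.Prime.dvd_mul hp).1 hd with h | hd
      · have := (Nat.prime_dvd_prime_iff_eq hp Nat.prime_five).1 (hp.dvd_of_dvd_pow h); omega
      · exact (Nat.prime_dvd_prime_iff_eq hp (by norm_num)).1 hd
    subst h1
    exact Facts.self hp (by norm_num) (fun x hx => card_cent_j2_seven hx) (by rw [card_j2]; norm_num)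
  · exact facts_of_not_dvd hd

end Cfsg.Agent.H71.Tor
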