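import Cfsg.Agent.H71.Tor.Common
import Cfsg.Agent.H305.SepJ1
import Cfsg.Agent.H898.J3Cent

/-!
# S3235: the facts for `J₁` and `J₃` (helper71)
-/

set_option autoImplicit false

namespace Cfsg.Agent.H71.Tor

open Subgroup Cfsg Cfsg.Agent.H33.Tor

universe u

theorem card_j1 : Nat.card Spor.J1 = 175560 := H305.SepJ1.card

theorem card_cent_j1 {r c : ℕ} (h : ∀ R : Subgroup Spor.J1, Nat.card R = r → Nat.card (centralizer (R : Set Spor.J1)) = c)
    {x : Spor.J1} (hx : orderOf x = r) : Nat.card (centralizer ({x} : Set Spor.J1)) = c := by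
  rw [← centralizer_zpowers]
  exact h _ (by rw [Nat.card_zpowers, hx])

/-- `J₁`, all primes `p ≥ 5`. -/
theorem facts_j1 {p : ℕ} (hp : p.Prime) (hp5 : 5 ≤ p) {G : Type u} [Group G] (h : Spor.IsoJ1 G) : Facts p G := by
  obtain ⟨e⟩ := h
  refine Facts.congr e.symm ?_
  by_cases hd : p ∣ Nat.card Spor.J1
  · have h1 : p = 5 ∨ p = 7 ∨ p = 11 ∨ p = 19 := by
      rw [card_j1, show (175560 : ℕ) = 2 ^ 3 * (3 * (5 * (7 * (11 * 19)))) by norm_num] at hd
      rcases (Nat.Prime.dvd_mul hp).1 hd with h | hd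
      · have := (Nat.prime_dvd_prime_iff_eq hp Nat.prime_two).1 (hp.dvd_of_dvd_pow h); omega
      rcases (Nat.Prime.dvd_mul hp).1 hd with h | hd
      · have := (Nat.prime_dvd_prime_iff_eq hp Nat.prime_three).1 h; omega
      rcases (Nat.Prime.dvd_mul hp).1 hd with h | hd
      · exact Or.inl ((Nat.prime_dvd_prime_iff_eq hp Nat.prime_five).1 h)
      rcases (Nat.Prime.dvd_mul hp).1 hd with h | hd
      · exact Or.inr (Or.inl ((Nat.prime_dvd_prime_iff_eq hp (by norm_num)).1 h))
      rcases (Nat.Prime.dvd_mul hp).1 hd with h | hd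
      · exact Or.inr (Or.inr (Or.inl ((Nat.prime_dvd_prime_iff_eq hp (by norm_num)).1 h)))
      · exact Or.inr (Or.inr (Or.inr ((Nat.prime_dvd_prime_iff_eq hp (by norm_num)).1 hd)))
    rcases h1 with rfl | rfl | rfl | rfl
    · intro x hx
      right; right
      refine Iv.of_le (b := 120) (c := 30) (N := 175560)
        (card_cent_j1 (fun R hR => (H305.SepJ1.cn5 hR).1) hx).le
        (fun z hz => (H305.SepJ1.card_cent_two hz).le) card_j1 1 (by norm_num) (by norm_num)
    · exact Facts.self hp (by norm_num) (fun x hx => card_cent_j1 (fun R hR => (H305.SepJ1.cn7 hR).1) hx)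
        (by rw [card_j1]; norm_num)
    · exact Facts.self hp (by norm_num) (fun x hx => card_cent_j1 (fun R hR => (H305.SepJ1.cn11 hR).1) hx)
        (by rw [card_j1]; norm_num)
    · exact Facts.self hp (by norm_num) (fun x hx => card_cent_j1 (fun R hR => (H305.SepJ1.cn19 hR).1) hx)
        (by rw [card_j1]; norm_num)
  · exact facts_of_not_dvd hd

/-- `J₃`, all primes `p ≥ 5`. -/
theorem facts_j3 {p : ℕ} (hp : p.Prime) (hp5 : 5 ≤ p) {G : Type u} [Group G] (h : Spor.IsoJ3 G) : Facts p G := by
  obtain ⟨-, hc, hM⟩ := H898.J3Cent.base h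
  have : Finite G := Nat.finite_of_card_ne_zero (by rw [hc]; norm_num)
  by_cases hd : p ∣ Nat.card G
  · have h1 : p = 5 ∨ p = 17 ∨ p = 19 := by
      rw [hc] at hd
      rcases H898.J3Cent.prime_dvd_card hp hd with h | h | h | h | h
      · omega
      · omega
      · exact Or.inl h
      · exact Or.inr (Or.inl h)
      · exact Or.inr (Or.inr h)
    rcases h1 with rfl | rfl | rfl
    · -- an element of order 5 in the centralizer of an involution
      have h2 := Fact.mk Nat.prime_two
      have h5 := Fact.mk Nat.prime_five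
      obtain ⟨t, ht⟩ := exists_prime_orderOf_dvd_card' (G := G) 2 (by rw [hc]; norm_num)
      have hct := (hM t ht).2.1
      obtain ⟨y, hy⟩ := exists_prime_orderOf_dvd_card' (G := ↥(centralizer ({t} : Set G))) 5 (by rw [hct]; norm_num)
      intro x hx
      left
      refine ev_of_sylow hp (by rw [hc]; norm_num) (y := (y : G)) (by rw [Subgroup.orderOf_coe, hy]) ?_ x hx
      exact ⟨t, ht, (mem_centralizer_singleton_iff.1 y.2).symm⟩
    · exact Facts.self hp (by norm_num) (fun x hx => (H898.J3Cent.seventeen h hx).1) (by rw [hc]; norm_num)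
    · exact Facts.self hp (by norm_num) (fun x hx => H898.J3Cent.card_nineteen h hx) (by rw [hc]; norm_num)
  · exact facts_of_not_dvd hd

end Cfsg.Agent.H71.Tor
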