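import Cfsg.Agent.H71.Tor.Common
import Cfsg.Agent.H723.Spor.JFour
import Cfsg.Agent.H478.RadJ4

/-!
# S3235: the facts for `J₄` (helper71)
-/

set_option autoImplicit false

namespace Cfsg.Agent.H71.Tor

open Subgroup Cfsg Cfsg.Agent.H33.Tor

universe u

theorem card_j4 : Nat.card Spor.J4 = 86775571046077562880 := H858.FixJ4.card_J4

theorem prime_j4 {p : ℕ} (hp : p.Prime) (hp5 : 5 ≤ p) (hd : p ∣ 86775571046077562880) :
    p = 5 ∨ p = 7 ∨ p = 11 ∨ (p = 23 ∨ p = 29 ∨ p = 31 ∨ p = 37 ∨ p = 43) := by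
  rw [show (86775571046077562880 : ℕ) = 2 ^ 21 * (3 ^ 3 * (5 * (7 * (11 ^ 3 * (23 * (29 * (31 * (37 * 43))))))))
    by norm_num] at hd
  rcases (Nat.Prime.dvd_mul hp).1 hd with h | hd
  · have := (Nat.prime_dvd_prime_iff_eq hp Nat.prime_two).1 (hp.dvd_of_dvd_pow h); omega
  rcases (Nat.Prime.dvd_mul hp).1 hd with h | hd
  · have := (Nat.prime_dvd_prime_iff_eq hp Nat.prime_three).1 (hp.dvd_of_dvd_pow h); omega
  rcases (Nat.Prime.dvd_mul hp).1 hd with h | hd
  · have := (Nat.prime_dvd_prime_iff_eq hp Nat.prime_five).1 h; omega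
  rcases (Nat.Prime.dvd_mul hp).1 hd with h | hd
  · have := (Nat.prime_dvd_prime_iff_eq hp (by norm_num)).1 h; omega
  rcases (Nat.Prime.dvd_mul hp).1 hd with h | hd
  · have := (Nat.prime_dvd_prime_iff_eq hp (by norm_num)).1 (hp.dvd_of_dvd_pow h); omega
  rcases (Nat.Prime.dvd_mul hp).1 hd with h | hd
  · have := (Nat.prime_dvd_prime_iff_eq hp (by norm_num)).1 h; omega
  rcases (Nat.Prime.dvd_mul hp).1 hd with h | hd
  · have := (Nat.prime_dvd_prime_iff_eq hp (by norm_num)).1 h; omega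
  rcases (Nat.Prime.dvd_mul hp).1 hd with h | hd
  · have := (Nat.prime_dvd_prime_iff_eq hp (by norm_num)).1 h; omega
  rcases (Nat.Prime.dvd_mul hp).1 hd with h | hd
  · have := (Nat.prime_dvd_prime_iff_eq hp (by norm_num)).1 h; omega
  · have := (Nat.prime_dvd_prime_iff_eq hp (by norm_num)).1 hd; omega

/-- `J₄`, all primes `p ≥ 5`. -/
theorem facts_j4 {p : ℕ} (hp : p.Prime) (hp5 : 5 ≤ p) {G : Type u} [Group G] (h : Spor.IsoJ4 G) : Facts p G := by
  obtain ⟨e⟩ := h
  refine Facts.congr e.symm ?_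
  have : Finite Spor.J4 := Nat.finite_of_card_ne_zero (by rw [card_j4]; norm_num)
  by_cases hd : p ∣ Nat.card Spor.J4
  · rw [card_j4] at hd
    rcases prime_j4 hp hp5 hd with rfl | rfl | rfl | hb
    · obtain ⟨g, hg⟩ := H723.Spor.JFour.exists_os 10 (by decide)
      obtain ⟨y, hy, hE⟩ := exists_ev_of_two_mul (p := 5) (by norm_num) hg
      exact fun x hx => Or.inl (ev_of_sylow hp (by rw [card_j4]; norm_num) hy hE x hx)
    · obtain ⟨g, hg⟩ := H723.Spor.JFour.exists_os 14 (by decide)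
      obtain ⟨y, hy, hE⟩ := exists_ev_of_two_mul (p := 7) (by norm_num) hg
      exact fun x hx => Or.inl (ev_of_sylow hp (by rw [card_j4]; norm_num) hy hE x hx)
    · intro x hx
      obtain ⟨t, ht, h1⟩ := H478.RadJ4.exists_invol hx
      exact Or.inl ⟨t, ht, h1.symm⟩
    · have h7 : 7 ≤ p := by omega
      refine Facts.self hp h7 (fun x hx => H723.Spor.JFour.cent_big hb hx) ?_
      rw [card_j4]
      have h43 : p ≤ 43 := by omega
      exact lt_of_le_of_lt (Nat.pow_le_pow_left h43 3) (by norm_num)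
  · exact facts_of_not_dvd hd

end Cfsg.Agent.H71.Tor
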