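import Cfsg.Agent.H33.Tor.Facts

/-!
# S3235: tools for the facts (helper71)
-/

set_option autoImplicit false

namespace Cfsg.Agent.H71.Tor

open Subgroup Cfsg Cfsg.Agent.H33.Tor

universe u

theorem centralizer_zpowers {G : Type*} [Group G] (x : G) :
    centralizer ((zpowers x : Subgroup G) : Set G) = centralizer ({x} : Set G) := by
  rw [zpowers_eq_closure, centralizer_closure]

/-- `Ev` is invariant under conjugation and replacing `x` by a generator. -/
theorem ev_of_zpowers {G : Type u} [Group G] {x y : G} (h : Ev y) {g : G}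
    (hxy : x ∈ (zpowers y).map (MulAut.conj g).toMonoidHom) : Ev x := by
  obtain ⟨z, hz, hzy⟩ := h
  obtain ⟨w, hw, rfl⟩ := hxy
  obtain ⟨k, rfl⟩ := mem_zpowers_iff.1 hw
  refine ⟨MulAut.conj g z, by rw [MulEquiv.orderOf_eq, hz], ?_⟩
  have h1 : Commute z (y ^ k) := (show Commute z y from hzy).zpow_right k
  show (MulAut.conj g) z * (MulAut.conj g) (y ^ k) = (MulAut.conj g) (y ^ k) * (MulAut.conj g) z
  rw [← map_mul, h1.eq, map_mul]

/-- If the Sylow `p`-subgroups have order `p` then one element of order `p` commuting with an involution is enough. -/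
theorem ev_of_sylow {G : Type u} [Group G] [Finite G] {p : ℕ} (hp : p.Prime) (h2 : ¬ p ^ 2 ∣ Nat.card G) {y : G}
    (hy : orderOf y = p) (h : Ev y) : ∀ x : G, orderOf x = p → Ev x := by
  have := Fact.mk hp
  intro x hx
  have key : ∀ a : G, orderOf a = p → ∃ P : Sylow p G, (P : Subgroup G) = zpowers a := by
    intro a ha
    have hc : Nat.card (zpowers a) = p := by rw [Nat.card_zpowers, ha]
    have h1 : IsPGroup p (zpowers a) := IsPGroup.of_card (n := 1) (by rw [hc, pow_one])
    have h3 : ¬ p ∣ (zpowers a).index := by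
      intro h4
      apply h2
      rw [← (zpowers a).card_mul_index, hc, pow_two]
      exact Nat.mul_dvd_mul_left p h4
    exact ⟨h1.toSylow h3, rfl⟩
  obtain ⟨P, hP⟩ := key x hx
  obtain ⟨Q, hQ⟩ := key y hy
  obtain ⟨g, hg⟩ := MulAction.exists_smul_eq G Q P
  refine ev_of_zpowers h (g := g) ?_
  have h5 : (P : Subgroup G) = (Q : Subgroup G).map (MulAut.conj g).toMonoidHom := by
    rw [← hg]; rfl
  rw [hP, hQ] at h5
  rw [← h5]
  exact mem_zpowers x

theorem facts_of_not_dvd {G : Type u} [Group G] {p : ℕ} (h : ¬ p ∣ Nat.card G) : Facts p G := by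
  intro x hx
  exact absurd (hx ▸ orderOf_dvd_natCard x) h

/-- An element of order `2 p` gives an element of order `p` commuting with an involution. -/
theorem exists_ev_of_two_mul {G : Type u} [Group G] {p : ℕ} (hp : p ≠ 0) {g : G} (hg : orderOf g = 2 * p) :
    ∃ y : G, orderOf y = p ∧ Ev y := by
  refine ⟨g ^ 2, ?_, g ^ p, ?_, ((Commute.refl g).pow_pow p 2).eq⟩
  · rw [orderOf_pow_of_dvd (by norm_num) (by rw [hg]; exact dvd_mul_right _ _), hg]
    simp
  · rw [orderOf_pow_of_dvd hp (by rw [hg]; exact dvd_mul_left _ _), hg]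
    exact Nat.mul_div_cancel _ (Nat.pos_of_ne_zero hp)

end Cfsg.Agent.H71.Tor
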